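import Cfsg.Agent.H59.EP.CountG
import Cfsg.Agent.H220.EP.ASeven
import Cfsg.Agent.H758.EPX.TK

/-!
# S5745: `A₇` has at most 26085 subgroups in `LocK` (helper225)

A member `K ≠ A₇` of `LocK` is `N(X)`, `X` elementary abelian (at most `26 * 420`) or simple: then `X` fixes a point
(at most `7 * 2160`) or has order 168 (at most 45, helper220).
-/

set_option autoImplicit false
set_option linter.unusedSectionVars false

namespace Cfsg.Agent.H225.EX

open Equiv Equiv.Perm Subgroup MulAction Cfsg.Agent.H220.EP Cfsg.Agent.H59.EP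
open Cfsg.Agent.H273.EPU (LocK)
open scoped Pointwise

/-- a simple nonsolvable group stabilising a set of at most 3 points fixes its points -/
theorem fix_of_small {D : Subgroup (Perm (Fin 7))} (hs : IsSimpleGroup D) (hn : ¬ Group.IsSolvable D)
    {Δ : Finset (Fin 7)} (h3 : Δ.card ≤ 3) (hD : D ≤ SS Δ) : ∀ g ∈ D, ∀ i ∈ Δ, g i = i := by
  classical
  have hp : ∀ g ∈ D, ∀ i, g i ∈ Δ ↔ i ∈ Δ := by
    intro g hg i
    constructor
    · intro h
      have h1 := mem_SS.1 (hD (D.inv_mem hg)) _ h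
      have h2 : g⁻¹ (g i) = i := g.symm_apply_apply i
      rwa [h2] at h1
    · exact fun h => mem_SS.1 (hD hg) i h
  let f : D →* Perm {i // i ∈ Δ} :=
    { toFun := fun g => (g : Perm (Fin 7)).subtypePerm (hp g g.2)
      map_one' := by ext i; rfl
      map_mul' := fun a b => by ext i; rfl }
  rcases (inferInstance : f.ker.Normal).eq_bot_or_eq_top with h | h
  · exfalso
    obtain ⟨p, hp, hp5, hpd⟩ := exists_prime_ge_five hn
    have hinj : Function.Injective f := by rwa [← MonoidHom.ker_eq_bot_iff]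
    have h1 : Nat.card D ∣ Nat.card (Perm {i // i ∈ Δ}) := Subgroup.card_dvd_of_injective f hinj
    rw [Nat.card_eq_fintype_card (α := Perm _), Fintype.card_perm, Fintype.card_coe] at h1
    have h2 := (hp.dvd_factorial).1 (hpd.trans h1)
    omega
  · intro g hg i hi
    have h1 : (⟨g, hg⟩ : D) ∈ f.ker := by rw [h]; exact mem_top _
    have h2 := DFunLike.congr_fun (MonoidHom.mem_ker.1 h1) ⟨i, hi⟩
    exact congrArg Subtype.val h2

/-- the point stabilisers of `A₇` -/
theorem card_stab (i : Fin 7) : Nat.card (stabilizer A7 i) = 360 := by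
  have h7 : IsPretransitive A7 (Fin 7) := pretrans (by rw [card_A7]; norm_num)
  have h2 : (stabilizer A7 i).index = 7 := by
    rw [index_stabilizer, orbit_eq_univ, Set.ncard_univ, Nat.card_eq_fintype_card, Fintype.card_fin]
  have h3 := (stabilizer A7 i).card_mul_index
  rw [h2, card_A7] at h3
  omega

/-- the simple subgroups -/
def SX : Set (Subgroup A7) :=
  {X | X ≠ ⊤ ∧ (IsSimpleGroup X ∧ ¬ Group.IsSolvable X) ∧ ∃ a b : X, closure ({a, b} : Set X) = ⊤}

theorem ncard_SX_le (i : Fin 7) : {X ∈ SX | X ≤ stabilizer A7 i}.ncard ≤ 2160 := by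
  have h1 := ncard_simple_le (B := stabilizer A7 i)
    (𝒮 := {Y | (IsSimpleGroup Y ∧ ¬ Group.IsSolvable Y) ∧ ∃ a b : Y, closure ({a, b} : Set Y) = ⊤})
    (fun X hX => hX.1) (fun X hX => hX.2)
  rw [card_stab] at h1
  refine le_trans (Set.ncard_le_ncard_of_injOn (fun X => X.subgroupOf (stabilizer A7 i)) ?_ ?_ (Set.toFinite _)) h1
  · rintro X ⟨⟨-, ⟨hs, hn⟩, a, b, hab⟩, hX⟩
    have e : X.subgroupOf (stabilizer A7 i) ≃* X := subgroupOfEquivOfLe hX
    refine ⟨⟨e.isSimpleGroup, fun h => hn ?_⟩, e.symm a, e.symm b, ?_⟩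
    · exact Group.isSolvable_of_isSolvable_injective (f := e.symm.toMonoidHom) e.symm.injective
    · have h2 : (closure ({a, b} : Set X)).map e.symm.toMonoidHom = closure ({e.symm a, e.symm b} : Set _) := by
        rw [MonoidHom.map_closure, Set.image_pair]
        rfl
      rw [← h2, hab, ← MonoidHom.range_eq_map]
      exact MonoidHom.range_eq_top.2 e.symm.surjective
  · rintro X ⟨-, hX⟩ Y ⟨-, hY⟩ hXY
    have h2 : X.subgroupOf (stabilizer A7 i) = Y.subgroupOf (stabilizer A7 i) := hXY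
    rw [subgroupOf_inj, inf_eq_left.2 hX, inf_eq_left.2 hY] at h2
    exact h2

theorem SX_cases {X : Subgroup A7} (hX : X ∈ SX) :
    (∃ i : Fin 7, X ≤ stabilizer A7 i) ∨ X.map A7.subtype ∈ F7 := by
  obtain ⟨hT, ⟨hs, hn⟩, -⟩ := hX
  set D : Subgroup (Perm (Fin 7)) := X.map A7.subtype with hDdef
  have hDA : D ≤ A7 := map_subtype_le _
  have e : X ≃* D := X.equivMapOfInjective _ A7.subtype_injective
  have hDs : IsSimpleGroup D := e.symm.isSimpleGroup
  have hDn : ¬ Group.IsSolvable D := fun h => hn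
    (Group.isSolvable_of_isSolvable_injective (f := e.toMonoidHom) e.injective)
  have hmem : ∀ x : A7, x ∈ X → (x : Perm (Fin 7)) ∈ D := fun x hx => ⟨x, hx, rfl⟩
  have hDT : ¬ A7 ≤ D := by
    intro h
    apply hT
    rw [eq_top_iff]
    intro x _
    obtain ⟨y, hy, hyx⟩ := h x.2
    have : y = x := Subtype.ext hyx
    rwa [← this]
  by_cases h7 : 7 ∣ Nat.card D
  · right
    have := Fact.mk (by norm_num : Nat.Prime 7)
    obtain ⟨Y, hY⟩ := exists_Ys h7
    rcases dich hDA hDT hY with h1 | ⟨h1, -, -⟩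
    · exfalso
      have hYn : (Y.subgroupOf D).Normal := by
        constructor
        intro y hy g
        rw [mem_subgroupOf] at hy ⊢
        exact (mem_normalizer_iff.1 (h1 g.2) _).1 hy
      have hc : Nat.card (Y.subgroupOf D) = 7 := by rw [card_subgroupOf hY.1, hY.2]
      rcases hYn.eq_bot_or_eq_top with h2 | h2
      · rw [h2, card_bot] at hc
        omega
      · apply hDn
        rw [h2, card_top] at hc
        have hcyc : IsCyclic D := isCyclic_of_prime_card (p := 7) hc
        apply Group.isSolvable_of_comm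
        intro a b
        obtain ⟨g, hg⟩ := hcyc.exists_generator
        obtain ⟨i, rfl⟩ := mem_zpowers_iff.1 (hg a)
        obtain ⟨j, rfl⟩ := mem_zpowers_iff.1 (hg b)
        rw [← zpow_add, ← zpow_add, add_comm]
    · exact ⟨hDA, h1⟩
  · left
    obtain ⟨Δ, h1, h3, hΔ⟩ := exists_SS h7
    obtain ⟨i, hi⟩ := Finset.card_pos.1 h1
    refine ⟨i, fun x hx => ?_⟩
    rw [mem_stabilizer_iff]
    exact fix_of_small hDs hDn h3 hΔ x (hmem x hx) i hi

theorem ncard_SX : SX.ncard ≤ 15165 := by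
  classical
  have h1 : SX ⊆ (⋃ i ∈ (Finset.univ : Finset (Fin 7)), {X ∈ SX | X ≤ stabilizer A7 i}) ∪
      {X : Subgroup A7 | X.map A7.subtype ∈ F7} := by
    intro X hX
    rcases SX_cases hX with ⟨i, hi⟩ | h
    · refine Or.inl ?_
      simp only [Set.mem_iUnion]
      exact ⟨i, Finset.mem_univ _, hX, hi⟩
    · exact Or.inr h
  have h2 : {X : Subgroup A7 | X.map A7.subtype ∈ F7}.ncard ≤ 45 := by
    refine le_trans (Set.ncard_le_ncard_of_injOn (fun X => X.map A7.subtype) (fun X hX => hX) ?_ (Set.toFinite _))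
      ncard_F7
    intro X _ Y _ h
    exact map_injective A7.subtype_injective h
  have h3 : (⋃ i ∈ (Finset.univ : Finset (Fin 7)), {X ∈ SX | X ≤ stabilizer A7 i}).ncard ≤ 7 * 2160 := by
    refine (Finset.set_ncard_biUnion_le _ _).trans ((Finset.sum_le_sum fun i _ => ncard_SX_le i).trans ?_)
    simp
  refine (Set.ncard_le_ncard h1 (Set.toFinite _)).trans ((Set.ncard_union_le _ _).trans ?_)
  omega

theorem nonab_A7 : ∃ a b : A7, a * b ≠ b * a :=
  ⟨⟨swap 0 1 * swap 1 2, by rw [mem_alternatingGroup]; decide⟩, ⟨swap 2 3 * swap 3 4, by rw [mem_alternatingGroup]; decide⟩,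
    fun h => absurd (DFunLike.congr_fun (congrArg Subtype.val h) 2) (by decide)⟩

theorem mem_normalizer_of {L : Type*} [Group L] [Finite L] {X : Subgroup L} {b : L} (h : ∀ k ∈ X, b * k * b⁻¹ ∈ X) :
    b ∈ normalizer (X : Set L) := by
  have h1 : X.map (MulAut.conj b).toMonoidHom = X := by
    apply Subgroup.eq_of_le_of_card_ge
    · rintro _ ⟨k, hk, rfl⟩
      exact h k hk
    · exact (Nat.card_congr (X.equivMapOfInjective _ (MulAut.conj b).injective).toEquiv).le
  rw [mem_normalizer_iff]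
  intro k
  refine ⟨h k, fun hk => ?_⟩
  rw [← h1] at hk
  obtain ⟨y, hy, e⟩ := hk
  have e' : b * y * b⁻¹ = b * k * b⁻¹ := e
  have : y = k := mul_left_cancel (mul_right_cancel e')
  rw [← this]
  exact hy

/-- **at most 26085 members of `LocK`** -/
theorem ncard_locK_A7 (hg : TwoGen.{0}) : (LocK A7 \ {⊤}).ncard ≤ 26085 := by
  classical
  have hs : IsSimpleGroup A7 := alternatingGroup.isSimpleGroup (by simp)
  have key : ∀ K ∈ LocK A7 \ {⊤}, ∃ X : Subgroup A7, normalizer (X : Set A7) = K ∧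
      ((∃ s ∈ (Nat.card A7).primeFactors, ElAb s X ∧ X ≠ ⊥) ∨ X ∈ SX) := by
    rintro K ⟨hK, hKT⟩
    obtain ⟨X, h1, h2, h3, h4⟩ := exists_key hK.1 (fun Y hY hY0 b hb => hK.2 Y hY hY0 (mem_normalizer_of hb))
    refine ⟨X, h1, ?_⟩
    have hXn : Nontrivial X := (Subgroup.nontrivial_iff_ne_bot X).2 h3
    have hXB : Nat.card X ∣ Nat.card A7 := Subgroup.card_subgroup_dvd_card X
    have h5 : ∀ p, p.Prime → 5 ≤ p → ¬ p ^ 2 ∣ Nat.card X := by
      intro p hp hp5 hd
      have h6 : p ^ 2 ∣ 2520 := by rw [← card_A7]; exact hd.trans hXB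
      have h7 : p ∣ 2520 := (dvd_pow_self p (by norm_num)).trans h6
      have h8 : p ∈ (2520 : ℕ).primeFactors := Nat.mem_primeFactors.2 ⟨hp, h7, by norm_num⟩
      have h9 : (2520 : ℕ).primeFactors = {2, 3, 5, 7} := by decide +kernel
      rw [h9] at h8
      simp only [Finset.mem_insert, Finset.mem_singleton] at h8
      rcases h8 with rfl | rfl | rfl | rfl
      · omega
      · omega
      · revert h6; decide
      · revert h6; decide
    rcases char_simple h4 h5 with ⟨s, hsp, hsd, hel⟩ | ⟨h6, h7⟩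
    · left
      refine ⟨s, Nat.mem_primeFactors.2 ⟨hsp, hsd.trans hXB, Nat.card_pos.ne'⟩, ⟨?_, ?_⟩, h3⟩
      · intro a ha b hb
        exact Subtype.ext_iff.1 (hel.comm ⟨a, ha⟩ (mem_top _) ⟨b, hb⟩ (mem_top _))
      · intro a ha
        exact Subtype.ext_iff.1 (hel.exp ⟨a, ha⟩ (mem_top _))
    · right
      refine ⟨?_, ⟨h6, h7⟩, hg X⟩
      rintro rfl
      apply hKT
      rw [Set.mem_singleton_iff, ← h1]
      exact normalizer_eq_top_iff.2 inferInstance
  choose! f hf1 hf2 using key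
  have hinj : Set.InjOn f (LocK A7 \ {⊤}) := by
    intro K hK L hL hKL
    rw [← hf1 K hK, ← hf1 L hL, hKL]
  have hidx : ∀ K ∈ LocK A7 \ {⊤}, K.index ≤ 420 := by
    rintro K ⟨hK, -⟩
    have h1 := Cfsg.Agent.H758.EPX.locK_card hs nonab_A7 hK
    have h2 := K.card_mul_index
    rw [card_A7] at h2
    by_contra hcon
    push Not at hcon
    have h3 := Nat.mul_le_mul h1 (Nat.succ_le_of_lt hcon)
    omega
  let W : Set (Subgroup A7) := (⋃ s ∈ (Nat.card A7).primeFactors,
      {X : Subgroup A7 | ElAb s X ∧ X ≠ ⊥ ∧ (normalizer (X : Set A7)).index ≤ 420}) ∪ SX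
  have hW : ∀ K ∈ LocK A7 \ {⊤}, f K ∈ W := by
    intro K hK
    rcases hf2 K hK with ⟨s, h1, h2, h3⟩ | h
    · refine Or.inl ?_
      simp only [Set.mem_iUnion]
      exact ⟨s, h1, h2, h3, by rw [hf1 K hK]; exact hidx K hK⟩
    · exact Or.inr h
  refine (Set.ncard_le_ncard_of_injOn f hW hinj (Set.toFinite _)).trans ((Set.ncard_union_le _ _).trans ?_)
  have h1 : (⋃ s ∈ (Nat.card A7).primeFactors,
      {X : Subgroup A7 | ElAb s X ∧ X ≠ ⊥ ∧ (normalizer (X : Set A7)).index ≤ 420}).ncard ≤ 26 * 420 := by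
    refine (Finset.set_ncard_biUnion_le _ _).trans ?_
    have h2 : ∀ s ∈ (Nat.card A7).primeFactors,
        {X : Subgroup A7 | ElAb s X ∧ X ≠ ⊥ ∧ (normalizer (X : Set A7)).index ≤ 420}.ncard ≤
          gal s ((Nat.card A7).factorization s) * 420 := fun s hs => ncard_elab_class_le (Nat.prime_of_mem_primeFactors hs)
    refine (Finset.sum_le_sum h2).trans ?_
    rw [← Finset.sum_mul]
    refine Nat.mul_le_mul_right _ ?_
    rw [card_A7]
    have h9 : (2520 : ℕ).primeFactors = {2, 3, 5, 7} := by decide +kernel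
    rw [h9]
    have hf : ∀ p a m, p.Prime → 2520 = p ^ a * m → ¬ p ∣ m → (2520 : ℕ).factorization p = a := by
      intro p a m hp h hm
      rw [h, Nat.factorization_mul (pow_ne_zero _ hp.ne_zero) (by rintro rfl; exact hm (dvd_zero p)),
        Finsupp.add_apply, Nat.factorization_pow, Finsupp.smul_apply, hp.factorization_self,
        Nat.factorization_eq_zero_of_not_dvd hm, smul_eq_mul, mul_one, add_zero]
    rw [Finset.sum_insert (by decide), Finset.sum_insert (by decide), Finset.sum_insert (by decide),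
      Finset.sum_singleton, hf 2 3 315 (by norm_num) (by norm_num) (by norm_num),
      hf 3 2 280 (by norm_num) (by norm_num) (by norm_num), hf 5 1 504 (by norm_num) (by norm_num) (by norm_num),
      hf 7 1 360 (by norm_num) (by norm_num) (by norm_num)]
    decide +kernel
  have h2 := ncard_SX
  omega

end Cfsg.Agent.H225.EX
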