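import Cfsg.Agent.H805.EPX.Sieve
import Cfsg.Agent.OrdDiv.Main

/-!
# S5745, own characteristic, small socles of rank one: the order part (helper225)

`Big p G` : the order of `G` exceeds the bounds which the counts (helper157) give for the groups with a subgroup
`(H, N)` with `N ≅ A₅`, `A₆`, `U₃(3)`, `U₃(5)`; for the seven families.
-/

set_option autoImplicit false

namespace Cfsg.Agent.H225.EX

open Cfsg Cfsg.Agent.OrdDiv Cfsg.Agent.H805.EPX

/-- **the orders** (`X` : the exception, `G ≅ G₂(p)`) -/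
structure Big (p : ℕ) (G : Type) [Group G] (X : Prop) : Prop where
  a5 : 288120 < Nat.card G
  a6 : p = 3 → 591495840 < Nat.card G ∨ ¬ 5 ∣ Nat.card G
  u3 : p = 3 → 4239212544 < Nat.card G ∨ X
  u5 : p = 5 → 14 * 10 ^ 18 < Nat.card G ∨ X

theorem big_of_lt {p : ℕ} {G : Type} [Group G] {X : Prop} (h : 14 * 10 ^ 18 < Nat.card G) : Big p G X :=
  ⟨by omega, fun _ => Or.inl (by omega), fun _ => Or.inl (by omega), fun _ => Or.inl h⟩

theorem lt_card {f : Fm} {B Q : ℕ} (hm : 3 * B < nm f Q) {q C : ℕ} (hQ : Q ≤ q) (hC : dn f q * C = nm f q) :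
    B < C := by
  by_contra hcon
  push Not at hcon
  have := lt_of_bound hm hC hcon
  omega

theorem lt_card1 {f : Fm} {B Q : ℕ} (hm : B < nm f Q) {q C : ℕ} (hQ : Q ≤ q) (hC : C = nm f q) : B < C :=
  hC ▸ hm.trans_le (nm_mono f hQ)

theorem two_le {F : Type} [Field F] [Fintype F] : 2 ≤ Fintype.card F := Fintype.one_lt_card

/-- `p ≤ |F|` -/
theorem p_le {F : Type} [Field F] [Fintype F] (p : ℕ) [CharP F p] : p ≤ Fintype.card F := by
  have h1 : p ∣ Fintype.card F := (CharP.cast_eq_zero_iff F p _).1 (Nat.cast_card_eq_zero F)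
  exact Nat.le_of_dvd (Fintype.card_pos) h1

theorem big_e8 (OT : OrderTable.{0}) (F : Type) [Field F] [Fintype F] (p : ℕ) (X : Prop) :
    Big p ↥(Lie.chevE8.group F) X :=
  big_of_lt (lt_card1 (f := .e8) (Q := 2) (by decide +kernel) two_le (OT.e8 F _ rfl))

theorem big_e7 (OT : OrderTable.{0}) (F : Type) [Field F] [Fintype F] (p : ℕ) (X : Prop) :
    Big p ↥(Lie.chevE7.group F) X :=
  big_of_lt (lt_card (f := .e7) (Q := 2) (by decide +kernel) two_le (OT.e7 F _ rfl))

theorem big_e6 (OT : OrderTable.{0}) (F : Type) [Field F] [Fintype F] (p : ℕ) (X : Prop) :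
    Big p ↥(Lie.chevE6.group F) X :=
  big_of_lt (lt_card (f := .e6) (Q := 2) (by decide +kernel) two_le (OT.e6 F _ rfl))

theorem big_te6 (OT : OrderTable.{0}) (K : Type) [Field K] [Fintype K] (p q : ℕ) (X : Prop) (hq : IsPrimePow q)
    (hK : Fintype.card K = q ^ 2) : Big p ↥(Lie.twistedE6 K q) X :=
  big_of_lt (lt_card (f := .te6) (Q := 2) (by decide +kernel) hq.two_le (OT.te6 K q hq hK))

theorem big_f4 (OT : OrderTable.{0}) (F : Type) [Field F] [Fintype F] (p : ℕ) [CharP F p] (X : Prop) :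
    Big p ↥(Lie.chevF4.group F) X := by
  have h := OT.f4 F _ rfl
  have h2 : 2 ^ 51 < Nat.card ↥(Lie.chevF4.group F) :=
    lt_card1 (f := .f4) (Q := 2) (by decide +kernel) two_le h
  refine ⟨by omega, fun _ => Or.inl (by omega), fun _ => Or.inl (by omega), fun hp => Or.inl ?_⟩
  exact lt_card1 (f := .f4) (Q := 5) (by decide +kernel) (hp ▸ p_le p) h

/-- `p ≤ q` if `p ∣ q ^ k` -/
theorem p_le_q {K : Type} [Field K] [Fintype K] {p : ℕ} [hp : Fact p.Prime] [CharP K p] {q k : ℕ} (hq : IsPrimePow q)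
    (hK : Fintype.card K = q ^ k) : p ≤ q := by
  have h1 : p ∣ Fintype.card K := (CharP.cast_eq_zero_iff K p _).1 (Nat.cast_card_eq_zero K)
  rw [hK] at h1
  exact Nat.le_of_dvd hq.pos (hp.out.dvd_of_dvd_pow h1)

theorem big_td4 (OT : OrderTable.{0}) (K : Type) [Field K] [Fintype K] (p q : ℕ) [Fact p.Prime] [CharP K p] (X : Prop)
    (hq : IsPrimePow q) (hK : Fintype.card K = q ^ 3) : Big p ↥(Lie.twistedD4 K q) X := by
  have h := OT.td4 K q hq hK
  have hpq : p ≤ q := p_le_q hq hK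
  have h2 : 288120 < Nat.card ↥(Lie.twistedD4 K q) :=
    lt_card1 (f := .td4) (Q := 2) (by decide +kernel) hq.two_le h
  refine ⟨h2, fun hp => Or.inl ?_, fun hp => Or.inl ?_, fun hp => Or.inl ?_⟩
  · exact lt_card1 (f := .td4) (Q := 3) (by decide +kernel) (hp ▸ hpq) h
  · exact lt_card1 (f := .td4) (Q := 3) (by decide +kernel) (hp ▸ hpq) h
  · exact lt_card1 (f := .td4) (Q := 5) (by decide +kernel) (hp ▸ hpq) h

theorem g2_mono {B Q q : ℕ} (hm : B < Q ^ 6 * (Q ^ 2 - 1) * (Q ^ 6 - 1)) (hQ : Q ≤ q) :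
    B < q ^ 6 * (q ^ 2 - 1) * (q ^ 6 - 1) := by
  refine hm.trans_le ?_
  gcongr

/-- `|F| = p` or `p² ≤ |F|` -/
theorem card_cases {F : Type} [Field F] [Fintype F] (p : ℕ) [hp : Fact p.Prime] [CharP F p] :
    Fintype.card F = p ∨ p ^ 2 ≤ Fintype.card F := by
  obtain ⟨⟨n, hn⟩, -, hc⟩ := FiniteField.card F p
  simp only [PNat.mk_coe] at hc
  rcases (by omega : n = 1 ∨ 2 ≤ n) with rfl | h2
  · left
    rw [hc, pow_one]
  · right
    rw [hc]
    exact Nat.pow_le_pow_right hp.out.pos h2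

theorem big_g2 (OT : OrderTable.{0}) (F : Type) [Field F] [Fintype F] (p : ℕ) [Fact p.Prime] [CharP F p]
    (h3 : 3 ≤ Fintype.card F) : Big p ↥(Lie.chevG2.group F) (Fintype.card F = p) := by
  have h := OT.g2 F
  refine ⟨?_, fun hp => ?_, fun hp => ?_, fun hp => ?_⟩
  · rw [h]
    exact g2_mono (Q := 3) (by norm_num) h3
  · rcases card_cases (F := F) p with h1 | h1
    · right
      rw [h, h1, hp]
      norm_num
    · left
      rw [h]
      rw [hp] at h1
      exact g2_mono (Q := 9) (by norm_num) (by omega)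
  · rcases card_cases (F := F) p with h1 | h1
    · exact Or.inr h1
    · left
      rw [h]
      rw [hp] at h1
      exact g2_mono (Q := 9) (by norm_num) (by omega)
  · rcases card_cases (F := F) p with h1 | h1
    · exact Or.inr h1
    · left
      rw [h]
      rw [hp] at h1
      exact g2_mono (Q := 25) (by norm_num) (by omega)

end Cfsg.Agent.H225.EX
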