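import Cfsg.Agent.H225.EX.SmallOrd

/-!
# S5745, own characteristic, small socles of rank one: the order part with the sharp numbers (helper225)

`BigB p G X` : `|³D₄(2)|`, `|³D₄(3)|`, `|³D₄(5)|` are the smallest orders, except `G₂(p)` (`X`).
-/

set_option autoImplicit false

namespace Cfsg.Agent.H225.EX

open Cfsg Cfsg.Agent.OrdDiv Cfsg.Agent.H805.EPX

/-- **the orders** (`X` : the exception, `G ≅ G₂(p)`) -/
structure BigB (p : ℕ) (G : Type) [Group G] (X : Prop) : Prop where
  a5 : p ≠ 3 → 211341312 ≤ Nat.card G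
  a6 : p = 3 → 20560831566912 ≤ Nat.card G ∨ ¬ 5 ∣ Nat.card G
  u3 : p = 3 → 20560831566912 ≤ Nat.card G ∨ X
  u5 : p = 5 → 35817806390625000000 ≤ Nat.card G ∨ X

theorem bigB_of_le {p : ℕ} {G : Type} [Group G] {X : Prop} (h : 35817806390625000000 ≤ Nat.card G) : BigB p G X :=
  ⟨fun _ => by omega, fun _ => Or.inl (by omega), fun _ => Or.inl (by omega), fun _ => Or.inl h⟩

theorem bigB_e8 (OT : OrderTable.{0}) (F : Type) [Field F] [Fintype F] (p : ℕ) (X : Prop) :
    BigB p ↥(Lie.chevE8.group F) X :=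
  bigB_of_le (lt_card1 (f := .e8) (B := 35817806390625000000) (Q := 2) (by decide +kernel) two_le
    (OT.e8 F _ rfl)).le

theorem bigB_e7 (OT : OrderTable.{0}) (F : Type) [Field F] [Fintype F] (p : ℕ) (X : Prop) :
    BigB p ↥(Lie.chevE7.group F) X :=
  bigB_of_le (lt_card (f := .e7) (B := 35817806390625000000) (Q := 2) (by decide +kernel) two_le
    (OT.e7 F _ rfl)).le

theorem bigB_e6 (OT : OrderTable.{0}) (F : Type) [Field F] [Fintype F] (p : ℕ) (X : Prop) :
    BigB p ↥(Lie.chevE6.group F) X :=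
  bigB_of_le (lt_card (f := .e6) (B := 35817806390625000000) (Q := 2) (by decide +kernel) two_le
    (OT.e6 F _ rfl)).le

theorem bigB_te6 (OT : OrderTable.{0}) (K : Type) [Field K] [Fintype K] (p q : ℕ) (X : Prop) (hq : IsPrimePow q)
    (hK : Fintype.card K = q ^ 2) : BigB p ↥(Lie.twistedE6 K q) X :=
  bigB_of_le (lt_card (f := .te6) (B := 35817806390625000000) (Q := 2) (by decide +kernel) hq.two_le
    (OT.te6 K q hq hK)).le

theorem bigB_f4 (OT : OrderTable.{0}) (F : Type) [Field F] [Fintype F] (p : ℕ) [CharP F p] (X : Prop) :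
    BigB p ↥(Lie.chevF4.group F) X := by
  have h := OT.f4 F _ rfl
  have h2 : 20560831566912 < Nat.card ↥(Lie.chevF4.group F) :=
    lt_card1 (f := .f4) (Q := 2) (by decide +kernel) two_le h
  refine ⟨fun _ => by omega, fun _ => Or.inl (by omega), fun _ => Or.inl (by omega), fun hp => Or.inl (le_of_lt ?_)⟩
  exact lt_card1 (f := .f4) (Q := 5) (by decide +kernel) (hp ▸ p_le p) h

theorem bigB_td4 (OT : OrderTable.{0}) (K : Type) [Field K] [Fintype K] (p q : ℕ) [Fact p.Prime] [CharP K p] (X : Prop)
    (hq : IsPrimePow q) (hK : Fintype.card K = q ^ 3) : BigB p ↥(Lie.twistedD4 K q) X := by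
  have h := OT.td4 K q hq hK
  have hpq : p ≤ q := p_le_q hq hK
  have h2 : 211341311 < Nat.card ↥(Lie.twistedD4 K q) :=
    lt_card1 (f := .td4) (Q := 2) (by decide +kernel) hq.two_le h
  refine ⟨fun _ => h2, fun hp => Or.inl ?_, fun hp => Or.inl ?_, fun hp => Or.inl ?_⟩
  · exact lt_card1 (f := .td4) (B := 20560831566911) (Q := 3) (by decide +kernel) (hp ▸ hpq) h
  · exact lt_card1 (f := .td4) (B := 20560831566911) (Q := 3) (by decide +kernel) (hp ▸ hpq) h
  · exact lt_card1 (f := .td4) (B := 35817806390624999999) (Q := 5) (by decide +kernel) (hp ▸ hpq) h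

theorem bigB_g2 (OT : OrderTable.{0}) (F : Type) [Field F] [Fintype F] (p : ℕ) [hp : Fact p.Prime] [CharP F p]
    (h3 : 3 ≤ Fintype.card F) : BigB p ↥(Lie.chevG2.group F) (Fintype.card F = p) := by
  have h := OT.g2 F
  refine ⟨fun hp3 => ?_, fun hp => ?_, fun hp => ?_, fun hp => ?_⟩
  · rw [h]
    have h4 : 4 ≤ Fintype.card F := by
      by_contra hcon
      have h5 : Fintype.card F = 3 := by omega
      rcases card_cases (F := F) p with h1 | h1
      · exact hp3 (h1 ▸ h5)
      · have := hp.out.two_le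
        nlinarith
    exact (g2_mono (B := 211341312) (Q := 4) (by norm_num) h4).le
  · rcases card_cases (F := F) p with h1 | h1
    · right
      rw [h, h1, hp]
      norm_num
    · left
      rw [h]
      rw [hp] at h1
      exact (g2_mono (B := 20560831566912) (Q := 9) (by norm_num) (by omega)).le
  · rcases card_cases (F := F) p with h1 | h1
    · exact Or.inr h1
    · left
      rw [h]
      rw [hp] at h1
      exact (g2_mono (B := 20560831566912) (Q := 9) (by norm_num) (by omega)).le
  · rcases card_cases (F := F) p with h1 | h1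
    · exact Or.inr h1
    · left
      rw [h]
      rw [hp] at h1
      exact (g2_mono (B := 35817806390625000000) (Q := 25) (by norm_num) (by omega)).le

end Cfsg.Agent.H225.EX
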