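import Cfsg.Agent.H225.EX.LocA7
import Cfsg.Agent.H225.EX.USq
import Cfsg.Agent.S2119

/-!
# S5745: the socle `A₇²` (helper225)

`a7_sq` : `EPS H N e`, `N ≅ A₇²` : `|G| ≤ 2 ^ 73.4`; so not in `E₆(2)`, `²E₆(2)`.
`TwoGen` : `H59.EP.twoGen`.
-/

set_option autoImplicit false
set_option linter.unusedSectionVars false

namespace Cfsg.Agent.H225.EX

open Subgroup Cfsg Cfsg.Agent.H284 Cfsg.Agent.H209.EPX Cfsg.Agent.H758.EPX
open Cfsg.Agent.H59.EP (TwoGen)
open Cfsg.Agent.Schreier.Basic (Sch)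
open Cfsg.Agent.H273.EPU (LocK map_mem_locK)

variable {T : Type} [Group T] {G : Type} [Group G] [Finite G] {H N : Subgroup G}

theorem card_aut_a7 (i : T ≃* alternatingGroup (Fin 7)) : Nat.card (MulAut T) = 5040 := by
  rw [Nat.card_congr (MulAut.congr i).toEquiv,
    ← Nat.card_congr (Equiv.ofBijective _ (Cfsg.Agent.S2119.result 7 (by norm_num) (by norm_num))),
    Nat.card_eq_fintype_card, Fintype.card_perm, Fintype.card_fin]
  rfl

theorem card_a7 (i : T ≃* alternatingGroup (Fin 7)) : Nat.card T = 2520 := by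
  rw [Nat.card_congr i.toEquiv]
  exact Cfsg.Agent.H220.EP.card_A7

theorem ncard_locK_of_a7 (hg : TwoGen.{0}) (i : T ≃* alternatingGroup (Fin 7)) : (LocK T \ {⊤}).ncard ≤ 26085 := by
  refine le_trans (Set.ncard_le_ncard_of_injOn (fun K => K.map i.toMonoidHom) ?_ ?_ (Set.toFinite _)) (ncard_locK_A7 hg)
  · rintro K ⟨hK, hK'⟩
    refine ⟨map_mem_locK i hK, fun h => hK' ?_⟩
    rw [Set.mem_singleton_iff] at h ⊢
    apply Subgroup.map_injective (f := i.toMonoidHom) i.injective
    rw [h]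
    exact (Subgroup.map_top_of_surjective _ i.surjective).symm
  · intro K _ K' _ h
    exact Subgroup.map_injective i.injective h

/-- **the bound for `A₇²`** -/
theorem a7_sq (hg : TwoGen.{0}) {e : N ≃* (Fin 2 → T)} (h : EPS H N e) (i : T ≃* alternatingGroup (Fin 7)) :
    Nat.card G ≤ 12195638537883545203200 := by
  have hfin : Finite T := Finite.of_injective i i.injective
  have hA := card_aut_a7 i
  have hT := card_a7 i
  have h1 := EPS.tk_two h (sch_of_two h.simple h.nab (by rw [hA, hT])) (L := 26085) (D := 176400)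
    (ncard_locK_of_a7 hg i) (by rw [hT]; norm_num) (by rw [hT]; norm_num)
  have h2 := EPS.card_H_le h
  rw [hA] at h1 h2
  refine h1.trans ((Nat.mul_le_mul_left _ h2).trans ?_)
  norm_num [Nat.factorial]

/-- **`E₆(2)`, `A₇²`** -/
theorem e6q2_a7_sq (hg : TwoGen.{0}) (hG : Nat.card G = 214841575522005575270400)
    {e : N ≃* (Fin 2 → T)} (h : EPS H N e) (i : T ≃* alternatingGroup (Fin 7)) : False := by
  have h1 := a7_sq hg h i
  rw [hG] at h1
  norm_num at h1

/-- **`²E₆(2)`, `A₇²`** -/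
theorem te6q2_a7_sq (hg : TwoGen.{0}) (hG : Nat.card G = 76532479683774853939200)
    {e : N ≃* (Fin 2 → T)} (h : EPS H N e) (i : T ≃* alternatingGroup (Fin 7)) : False := by
  have h1 := a7_sq hg h i
  rw [hG] at h1
  norm_num at h1

end Cfsg.Agent.H225.EX
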